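import Mathlib

/-! Projectivity of a cokernel at a prime and surjectivity of `κ(p) ⊗ ker d → ker (κ(p) ⊗ d)`. -/

universe u v w

open TensorProduct

namespace Groth.Agent.CokerProj

variable {R : Type u} [CommRing R] {M : Type v} {N : Type w} [AddCommGroup M] [Module R M]
  [AddCommGroup N] [Module R N] (d : M →ₗ[R] N)

/-- `f` makes the cokernel a direct summand of `N`, up to `f`. -/
def Splits (f : R) : Prop :=
  ∃ σ : (N ⧸ LinearMap.range d) →ₗ[R] N,
    (LinearMap.range d).mkQ ∘ₗ σ = f • LinearMap.id

/-- Condition (v). -/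
def KerSurj (p : Ideal R) [p.IsPrime] : Prop :=
  LinearMap.ker (d.baseChange p.ResidueField) ≤
    LinearMap.range ((LinearMap.ker d).subtype.baseChange p.ResidueField)

theorem kerSurj_of_splits [Module.Projective R N] {f : R} (p : Ideal R) [p.IsPrime] (hfp : f ∉ p)
    (h : Splits d f) : KerSurj d p := by
  obtain ⟨σ, hσ⟩ := h
  let π := (LinearMap.range d).mkQ
  have hmem : ∀ n, (f • LinearMap.id - σ ∘ₗ π : N →ₗ[R] N) n ∈ LinearMap.range d := fun n => by
    rw [← Submodule.Quotient.mk_eq_zero (LinearMap.range d)]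
    have h1 := LinearMap.congr_fun hσ (π n)
    simp only [LinearMap.comp_apply, LinearMap.smul_apply, LinearMap.id_apply] at h1
    simp only [LinearMap.sub_apply, LinearMap.smul_apply, LinearMap.id_apply, LinearMap.comp_apply,
      Submodule.Quotient.mk_sub, Submodule.Quotient.mk_smul]
    rw [sub_eq_zero]
    exact h1.symm
  obtain ⟨t, ht⟩ := Module.projective_lifting_property d.rangeRestrict
    (LinearMap.codRestrict _ (f • LinearMap.id - σ ∘ₗ π) hmem) d.surjective_rangeRestrict
  have ht' : ∀ n, d (t n) = f • n - σ (π n) := fun n => congrArg Subtype.val (LinearMap.congr_fun ht n)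
  have hker : ∀ m, (f • LinearMap.id - t ∘ₗ d : M →ₗ[R] M) m ∈ LinearMap.ker d := fun m => by
    simp only [LinearMap.mem_ker, LinearMap.sub_apply, LinearMap.smul_apply, LinearMap.id_apply,
      LinearMap.comp_apply, map_sub, map_smul, ht']
    rw [show π (d m) = 0 from (Submodule.Quotient.mk_eq_zero _).2 ⟨m, rfl⟩, map_zero, sub_zero, sub_self]
  let g : M →ₗ[R] LinearMap.ker d := LinearMap.codRestrict _ (f • LinearMap.id - t ∘ₗ d) hker
  intro x hx
  let κ := p.ResidueField
  have h1 : (LinearMap.ker d).subtype.baseChange κ (g.baseChange κ x) = algebraMap R κ f • x := by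
    rw [← LinearMap.comp_apply, ← LinearMap.baseChange_comp, LinearMap.subtype_comp_codRestrict,
      LinearMap.baseChange_sub, LinearMap.baseChange_smul, LinearMap.baseChange_id,
      LinearMap.baseChange_comp, LinearMap.sub_apply, LinearMap.smul_apply, LinearMap.id_apply,
      LinearMap.comp_apply, LinearMap.mem_ker.1 hx, map_zero, sub_zero, algebraMap_smul]
  have hu : algebraMap R κ f ≠ 0 := by
    rwa [ne_eq, Ideal.algebraMap_residueField_eq_zero]
  refine ⟨(algebraMap R κ f)⁻¹ • g.baseChange κ x, ?_⟩
  rw [map_smul, h1, inv_smul_smul₀ hu]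

theorem exists_splits_of_kerSurj [Module.Finite R M] [Module.Finite R N] [Module.Projective R N]
    (p : Ideal R) [p.IsPrime] (h : KerSurj d p) : ∃ f ∉ p, Splits d f := by
  classical
  let κ := p.ResidueField
  let I := LinearMap.range d
  haveI : Module.Finite R I := Module.Finite.range d
  -- `κ ⊗ I → κ ⊗ N` is injective
  have hinj : Function.Injective (I.subtype.baseChange κ) := by
    rw [injective_iff_map_eq_zero]
    intro w hw
    obtain ⟨v, rfl⟩ : ∃ v, d.rangeRestrict.baseChange κ v = w :=
      LinearMap.lTensor_surjective κ d.surjective_rangeRestrict w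
    have hv : v ∈ LinearMap.ker (d.baseChange κ) := by
      rw [LinearMap.mem_ker, ← hw, ← LinearMap.comp_apply (I.subtype.baseChange κ),
        ← LinearMap.baseChange_comp]
      rfl
    obtain ⟨k, rfl⟩ := h hv
    rw [← LinearMap.comp_apply, ← LinearMap.baseChange_comp,
      show d.rangeRestrict ∘ₗ (LinearMap.ker d).subtype = 0 from LinearMap.ext fun k => Subtype.ext k.2,
      LinearMap.baseChange_zero, LinearMap.zero_apply]
  -- a basis of `κ ⊗ I` from pure tensors
  let T : Set (κ ⊗[R] I) := Set.range fun m : M => (1 : κ) ⊗ₜ[R] d.rangeRestrict m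
  have hT : Submodule.span κ T = ⊤ := by
    rw [eq_top_iff]
    intro x _
    induction x using TensorProduct.induction_on with
    | zero => exact Submodule.zero_mem _
    | tmul a i =>
      obtain ⟨m, rfl⟩ := d.surjective_rangeRestrict i
      rw [show a ⊗ₜ[R] d.rangeRestrict m = a • ((1 : κ) ⊗ₜ[R] d.rangeRestrict m) by
        rw [TensorProduct.smul_tmul', smul_eq_mul, mul_one]]
      exact Submodule.smul_mem _ _ (Submodule.subset_span ⟨m, rfl⟩)
    | add a b ha hb => exact add_mem (ha trivial) (hb trivial)
  obtain ⟨b, hb, hbspan, hbli⟩ := exists_linearIndependent κ T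
  haveI : Fintype b := (hbli.setFinite).fintype
  choose mb hmb using fun x : b => hb x.2
  -- coordinates
  obtain ⟨n, i, π, hπ, -, hπi⟩ := Module.Finite.exists_comp_eq_id_of_projective R N
  let B : Matrix (Fin n) b R := fun j x => π (d (mb x)) j
  let Bκ : Matrix (Fin n) b κ := B.map (algebraMap R κ)
  have hπinj : Function.Injective (π.baseChange κ) := by
    apply Function.LeftInverse.injective (g := i.baseChange κ)
    intro x
    rw [← LinearMap.comp_apply, ← LinearMap.baseChange_comp, hπi, LinearMap.baseChange_id, LinearMap.id_apply]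
  let e := TensorProduct.piScalarRight R κ κ (Fin n)
  have hcol : LinearIndependent κ fun x : b => fun j => Bκ j x := by
    have h1 := hbli.map' (e.toLinearMap ∘ₗ (π.baseChange κ) ∘ₗ (I.subtype.baseChange κ))
      (LinearMap.ker_eq_bot.2 (e.injective.comp (hπinj.comp hinj)))
    rw [show (fun x : b => fun j => Bκ j x) =
      (e.toLinearMap ∘ₗ (π.baseChange κ) ∘ₗ (I.subtype.baseChange κ)) ∘ Subtype.val from ?_]
    · exact h1
    funext x j
    change Bκ j x = e (π.baseChange κ (I.subtype.baseChange κ (x : κ ⊗[R] I))) j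
    rw [← hmb x]
    simp [e, Bκ, B, Algebra.smul_def]
  obtain ⟨Lf, hLf⟩ := Bκ.mulVecLin.exists_leftInverse_of_injective (by
    rw [LinearMap.ker_eq_bot, Matrix.coe_mulVecLin]
    exact Matrix.mulVec_injective_iff.2 hcol)
  let L := LinearMap.toMatrix' Lf
  have hL : L * Bκ = 1 := by
    rw [← Matrix.toLin'.injective.eq_iff]
    change Matrix.toLin' (L * Bκ) = Matrix.toLin' 1
    rw [Matrix.toLin'_mul, Matrix.toLin'_toMatrix', Matrix.toLin'_one]
    exact hLf
  -- clear denominators
  obtain ⟨s, hs⟩ := IsLocalization.exist_integer_multiples_of_finite (nonZeroDivisors (R ⧸ p))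
    (fun z : b × Fin n => L z.1 z.2)
  obtain ⟨s₀, hs₀⟩ := Ideal.Quotient.mk_surjective (s : R ⧸ p)
  have hs₀p : s₀ ∉ p := fun hm => nonZeroDivisors.ne_zero s.2 (by
    rw [← hs₀, Ideal.Quotient.eq_zero_iff_mem]; exact hm)
  have hex : ∀ x j, ∃ r : R, algebraMap R κ r = algebraMap R κ s₀ * L x j := fun x j => by
    obtain ⟨y, hy⟩ := hs (x, j)
    obtain ⟨r, rfl⟩ := Ideal.Quotient.mk_surjective y
    refine ⟨r, hy.trans ?_⟩
    rw [← hs₀, Algebra.smul_def]
    rfl
  choose L' hL' using hex
  let D : Matrix b b R := Matrix.of L' * B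
  have hD : D.det ∉ p := by
    rw [← Ideal.algebraMap_residueField_eq_zero (I := p), RingHom.map_det]
    have : D.map (algebraMap R κ) = algebraMap R κ s₀ • (1 : Matrix b b κ) := by
      rw [← hL, Matrix.map_mul, ← Matrix.smul_mul]
      congr 1
      ext x j
      simp [hL']
    rw [RingHom.mapMatrix_apply, this, Matrix.det_smul, Matrix.det_one, mul_one]
    exact pow_ne_zero _ (by rwa [ne_eq, Ideal.algebraMap_residueField_eq_zero])
  -- Nakayama
  let S : Submodule R I := Submodule.span R (Set.range fun x : b => d.rangeRestrict (mb x))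
  have hQ : (⟨p, inferInstance⟩ : PrimeSpectrum R) ∉ Module.support R (I ⧸ S) := by
    rw [Module.mem_support_iff_nontrivial_residueField_tensorProduct, not_nontrivial_iff_subsingleton]
    refine subsingleton_of_forall_eq 0 fun x => ?_
    obtain ⟨y, rfl⟩ : ∃ y, S.mkQ.baseChange κ y = x :=
      LinearMap.lTensor_surjective κ S.mkQ_surjective x
    have hy : y ∈ Submodule.span κ b := hbspan ▸ hT ▸ Submodule.mem_top
    refine (Submodule.span_le (p := LinearMap.ker (S.mkQ.baseChange κ))).2 ?_ hy
    intro z hz
    rw [SetLike.mem_coe, LinearMap.mem_ker, show z = _ from (hmb ⟨z, hz⟩).symm, LinearMap.baseChange_tmul,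
      show S.mkQ (d.rangeRestrict (mb ⟨z, hz⟩)) = 0 from
        (Submodule.Quotient.mk_eq_zero S).2 (Submodule.subset_span ⟨_, rfl⟩), tmul_zero]
  rw [Module.mem_support_iff_of_finite, SetLike.not_le_iff_exists] at hQ
  obtain ⟨f₁, hf₁, hf₁p⟩ := hQ
  -- the section
  let c : N →ₗ[R] (b → R) := (Matrix.adjugate D * Matrix.of L').mulVecLin ∘ₗ π
  let t : N →ₗ[R] M := f₁ • ((Fintype.linearCombination R mb) ∘ₗ c)
  have hkey : ∀ m, d (t (d m)) = (f₁ * D.det) • d m := by
    have hc : ∀ x : b, c (d (mb x)) = D.det • (Pi.single x 1 : b → R) := fun x => by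
      have h1 : π (d (mb x)) = B.mulVec (Pi.single x 1) := by
        ext j
        simp [B, Matrix.mulVec_single]
      simp only [c, LinearMap.comp_apply, Matrix.mulVecLin_apply, h1, Matrix.mulVec_mulVec]
      rw [Matrix.mul_assoc, show Matrix.of L' * B = D from rfl, Matrix.adjugate_mul, Matrix.smul_mulVec,
        Matrix.one_mulVec]
    intro m
    have hm : f₁ • d.rangeRestrict m ∈ S := by
      rw [← Submodule.Quotient.mk_eq_zero S, Submodule.Quotient.mk_smul]
      exact Module.mem_annihilator.1 hf₁ _
    let φ : I →ₗ[R] N := d ∘ₗ Fintype.linearCombination R mb ∘ₗ c ∘ₗ I.subtype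
    have hφ : φ (f₁ • d.rangeRestrict m) = D.det • ((f₁ • d.rangeRestrict m : I) : N) := by
      generalize f₁ • d.rangeRestrict m = y₀ at hm ⊢
      induction hm using Submodule.span_induction with
      | mem y hy =>
        obtain ⟨x, rfl⟩ := hy
        simp only [φ, LinearMap.comp_apply, Submodule.subtype_apply]
        change d (Fintype.linearCombination R mb (c (d (mb x)))) = D.det • d (mb x)
        rw [hc, map_smul, map_smul, Fintype.linearCombination_apply_single, one_smul]
      | zero => simp
      | add a b _ _ ha hb => rw [map_add, ha, hb, Submodule.coe_add, smul_add]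
      | smul r a _ ha => rw [map_smul, ha, Submodule.coe_smul, smul_comm]
    rw [map_smul] at hφ
    simp only [φ, LinearMap.comp_apply, Submodule.subtype_apply, Submodule.coe_smul] at hφ
    simp only [t, LinearMap.smul_apply, LinearMap.comp_apply, map_smul]
    exact hφ.trans (by rw [smul_smul, mul_comm]; rfl)
  refine ⟨f₁ * D.det, fun hm => (Ideal.IsPrime.mem_or_mem ‹_› hm).elim hf₁p hD,
    I.liftQ ((f₁ * D.det) • LinearMap.id - d ∘ₗ t) ?_, ?_⟩
  · rintro _ ⟨m, rfl⟩
    simp [hkey]
  · apply Submodule.linearMap_qext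
    apply LinearMap.ext
    intro y
    simp only [LinearMap.comp_apply, Submodule.mkQ_apply, Submodule.liftQ_apply, LinearMap.sub_apply,
      LinearMap.smul_apply, LinearMap.id_apply, Submodule.Quotient.mk_sub, Submodule.Quotient.mk_smul]
    rw [(Submodule.Quotient.mk_eq_zero I).2 ⟨t y, rfl⟩, sub_zero]

theorem projective_away_of_splits [Module.Projective R N] {f : R} (h : Splits d f) :
    Module.Projective (Localization.Away f)
      (LocalizedModule (Submonoid.powers f) (N ⧸ LinearMap.range d)) := by
  obtain ⟨σ, hσ⟩ := h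
  let S := Submonoid.powers f
  let A := Localization S
  have hu : IsUnit (algebraMap R A f) := IsLocalization.map_units A ⟨f, Submonoid.mem_powers f⟩
  haveI : Module.Projective A (LocalizedModule S N) :=
    Module.Projective.of_equiv (LocalizedModule.equivTensorProduct S N).symm
  let σ' : LocalizedModule S (N ⧸ LinearMap.range d) →ₗ[A] LocalizedModule S N :=
    ((hu.unit⁻¹ : Aˣ) : A) • LocalizedModule.map S σ
  refine Module.Projective.of_split (R := Localization.Away f) σ' (LocalizedModule.map S (LinearMap.range d).mkQ) ?_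
  apply LinearMap.ext
  intro x
  induction x using LocalizedModule.induction_on with
  | _ c s =>
    have h1 : (LinearMap.range d).mkQ (σ c) = f • c := LinearMap.congr_fun hσ c
    simp only [LinearMap.comp_apply, σ', LinearMap.smul_apply, map_smul, LocalizedModule.map_mk,
      LinearMap.id_apply, h1]
    rw [← LocalizedModule.smul'_mk, ← algebraMap_smul A f, smul_smul, IsUnit.val_inv_mul, one_smul]

theorem exists_splits_of_projective_away [Module.Finite R M] [Module.Finite R N] [Module.Projective R N]
    (f : R)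
    (h : Module.Projective (Localization.Away f)
      (LocalizedModule (Submonoid.powers f) (N ⧸ LinearMap.range d))) :
    ∃ k : ℕ, Splits d (f ^ k) := by
  let S := Submonoid.powers f
  haveI : Module.FinitePresentation R N := Module.finitePresentation_of_projective R N
  haveI : Module.FinitePresentation R (N ⧸ LinearMap.range d) :=
    Module.finitePresentation_of_surjective _ (LinearMap.range d).mkQ_surjective (by
      rw [Submodule.ker_mkQ]; exact Module.Finite.iff_fg.1 (Module.Finite.range d))
  let π := (LinearMap.range d).mkQ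
  obtain ⟨σ, hσ⟩ := Module.projective_lifting_property (R := Localization S) (LocalizedModule.map S π)
    LinearMap.id (LocalizedModule.map_surjective S π (LinearMap.range d).mkQ_surjective)
  let mk := LocalizedModule.mkLinearMap S (N ⧸ LinearMap.range d)
  obtain ⟨g, ⟨_, a, rfl⟩, hg⟩ := Module.FinitePresentation.exists_lift_of_isLocalizedModule S
    (LocalizedModule.mkLinearMap S N) ((σ.restrictScalars R) ∘ₗ mk)
  have hcomp : mk ∘ₗ (π ∘ₗ g) = mk ∘ₗ (f ^ a • LinearMap.id) := by
    apply LinearMap.ext
    intro c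
    have h1 : LocalizedModule.mkLinearMap S N (g c) = f ^ a • σ (mk c) := LinearMap.congr_fun hg c
    have h2 : LocalizedModule.map S π (LocalizedModule.mkLinearMap S N (g c)) = mk (π (g c)) :=
      LocalizedModule.map_mk S π _ _
    rw [h1, LinearMap.map_smul_of_tower] at h2
    have h3 : LocalizedModule.map S π (σ (mk c)) = mk c := LinearMap.congr_fun hσ _
    rw [h3] at h2
    simp only [LinearMap.comp_apply, LinearMap.smul_apply, LinearMap.id_apply, map_smul]
    exact h2.symm
  obtain ⟨⟨_, a', rfl⟩, ha'⟩ := Module.Finite.exists_smul_of_comp_eq_of_isLocalizedModule S mk _ _ hcomp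
  refine ⟨a' + a, f ^ a' • g, ?_⟩
  rw [LinearMap.comp_smul, pow_add, mul_smul]
  exact ha'

theorem exists_splits_one [Module.Finite R M] [Module.Finite R N] [Module.Projective R N]
    (h : ∀ p : PrimeSpectrum R, KerSurj d p.asIdeal) : Splits d 1 := by
  let J : Ideal R :=
    { carrier := {f | Splits d f}
      zero_mem' := ⟨0, by simp⟩
      add_mem' := by
        rintro a b ⟨σ, hσ⟩ ⟨τ, hτ⟩
        exact ⟨σ + τ, by rw [LinearMap.comp_add, hσ, hτ, add_smul]⟩
      smul_mem' := by
        rintro r a ⟨σ, hσ⟩
        exact ⟨r • σ, by rw [LinearMap.comp_smul, hσ, smul_smul, smul_eq_mul]⟩ }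
  have : J = ⊤ := by
    by_contra hne
    obtain ⟨m, hm, hJ⟩ := J.exists_le_maximal hne
    obtain ⟨f, hf, hs⟩ := exists_splits_of_kerSurj d m (h ⟨m, hm.isPrime⟩)
    exact hf (hJ hs)
  exact (Ideal.eq_top_iff_one J).1 this

end Groth.Agent.CokerProj
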